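import Mathlib
import Cfsg.Agent.S0001

open Pointwise
open scoped commutatorElement

namespace Cfsg.Agent.Lib.Lead

universe u

theorem exists_normal_primePow {G : Type u} [Group G] [Finite G] [Group.IsSolvable G]
    [Nontrivial G] : ∃ N : Subgroup G, N.Normal ∧ IsPrimePow (Nat.card N) := by
  classical
  obtain ⟨n, hn⟩ := (Group.isSolvable_def G).mp inferInstance
  have hex : ∃ n, derivedSeries G n = ⊥ := ⟨n, hn⟩
  set k := Nat.find hex with hk
  have hk0 : derivedSeries G k = ⊥ := Nat.find_spec hex
  have hkne : k ≠ 0 := by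
    intro h0
    rw [h0, derivedSeries_zero] at hk0
    exact top_ne_bot hk0
  obtain ⟨j, hj⟩ := Nat.exists_eq_succ_of_ne_zero hkne
  have hjne : derivedSeries G j ≠ ⊥ := Nat.find_min hex (by omega)
  set A := derivedSeries G j with hA
  have hAA : ⁅A, A⁆ = ⊥ := by
    have := hk0
    rw [hj] at this
    exact this
  have hAn : A.Normal := derivedSeries_normal G j
  have hcomm : ∀ a b : A, a * b = b * a := by
    intro a b
    have h1 : ⁅(a : G), (b : G)⁆ ∈ ⁅A, A⁆ := Subgroup.commutator_mem_commutator a.2 b.2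
    rw [hAA, Subgroup.mem_bot, commutatorElement_eq_one_iff_mul_comm] at h1
    exact Subtype.ext h1
  have hcard : Nat.card A ≠ 1 := by
    intro h
    exact hjne (Subgroup.card_eq_one.mp h)
  obtain ⟨p, hp, hpd⟩ := Nat.exists_prime_and_dvd hcard
  have : Fact p.Prime := ⟨hp⟩
  let P : Sylow p A := default
  have hPn : (P : Subgroup A).Normal := ⟨fun x hx g => by
    rw [hcomm g x, mul_inv_cancel_right]; exact hx⟩
  have hPc : (P : Subgroup A).Characteristic := P.characteristic_of_normal hPn
  refine ⟨(P : Subgroup A).map A.subtype, ConjAct.normal_of_characteristic_of_normal, ?_⟩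
  rw [Subgroup.card_map_of_injective A.subtype_injective]
  obtain ⟨m, hm⟩ := P.2.exists_card_eq
  have hm' : Nat.card (P : Subgroup A) = p ^ m := hm
  rw [hm']
  have hne : (P : Subgroup A) ≠ ⊥ := P.ne_bot_of_dvd_card hpd
  have hm0 : m ≠ 0 := by
    intro h0
    rw [h0, pow_zero] at hm'
    exact hne (Subgroup.card_eq_one.mp hm')
  exact ⟨p, m, hp.prime, Nat.pos_of_ne_zero hm0, rfl⟩

theorem card_comap_mk' {G : Type u} [Group G] [Finite G] (N : Subgroup G) [N.Normal]
    (H : Subgroup (G ⧸ N)) :
    Nat.card (H.comap (QuotientGroup.mk' N)) = Nat.card H * Nat.card N := by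
  have h1 := (H.comap (QuotientGroup.mk' N)).card_mul_index
  rw [Subgroup.index_comap_of_surjective _ (QuotientGroup.mk'_surjective N)] at h1
  have h2 := H.card_mul_index
  have h3 := Subgroup.card_eq_card_quotient_mul_card_subgroup N
  have hpos : 0 < H.index := Nat.pos_of_ne_zero Subgroup.index_ne_zero_of_finite
  apply Nat.eq_of_mul_eq_mul_right hpos
  rw [h1, h3, ← h2]
  ring

theorem card_map_mk'_of_coprime {G : Type u} [Group G] [Finite G] (N : Subgroup G) [N.Normal]
    (K : Subgroup G) (h : (Nat.card N).Coprime (Nat.card K)) :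
    Nat.card (K.map (QuotientGroup.mk' N)) = Nat.card K := by
  rw [← Subgroup.relIndex_ker, QuotientGroup.ker_mk', ← Subgroup.inf_relIndex_right,
    (Subgroup.disjoint_of_coprime_natCard h).eq_bot, Subgroup.relIndex_bot_left]

theorem card_sup_of_coprime {G : Type u} [Group G] [Finite G] (N : Subgroup G) [N.Normal]
    (K : Subgroup G) (h : (Nat.card N).Coprime (Nat.card K)) :
    Nat.card (K ⊔ N : Subgroup G) = Nat.card K * Nat.card N := by
  have h1 := Subgroup.relIndex_mul_relIndex ⊥ N (K ⊔ N) bot_le le_sup_right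
  rw [Subgroup.relIndex_bot_left, Subgroup.relIndex_bot_left, Subgroup.relIndex_sup_right,
    ← Subgroup.inf_relIndex_right, (Subgroup.disjoint_of_coprime_natCard h).eq_bot,
    Subgroup.relIndex_bot_left] at h1
  rw [← h1, mul_comm]

theorem mem_conj_smul {G : Type u} [Group G] (g x : G) (H : Subgroup G) :
    x ∈ MulAut.conj g • H ↔ g⁻¹ * x * g ∈ H := by
  rw [Subgroup.mem_pointwise_smul_iff_inv_smul_mem, MulAut.smul_def, ← map_inv, MulAut.conj_apply,
    inv_inv]

theorem card_conj_smul {G : Type u} [Group G] (g : G) (H : Subgroup G) :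
    Nat.card (MulAut.conj g • H : Subgroup G) = Nat.card H :=
  Nat.card_congr (Subgroup.equivSMul (MulAut.conj g) H).toEquiv.symm


theorem map_conj_smul {G G' : Type*} [Group G] [Group G'] (f : G →* G') (g : G) (H : Subgroup G) :
    (MulAut.conj g • H).map f = MulAut.conj (f g) • H.map f := by
  ext x
  simp only [Subgroup.mem_map, mem_conj_smul]
  constructor
  · rintro ⟨y, hy, rfl⟩
    exact ⟨g⁻¹ * y * g, hy, by simp⟩
  · rintro ⟨y, hy, hyx⟩
    refine ⟨g * y * g⁻¹, by simpa [mul_assoc] using hy, ?_⟩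
    simp [hyx, mul_assoc]

theorem rel_sz {G : Type u} [Group G] [Finite G] (N : Subgroup G) [N.Normal]
    (hNs : Group.IsSolvable N) (X Y : Subgroup G) (hXY : Nat.card X = Nat.card Y)
    (hc : (Nat.card N).Coprime (Nat.card Y)) (hle : X ≤ Y ⊔ N) :
    ∃ g : G, MulAut.conj g • X = Y := by
  set M := Y ⊔ N with hM
  have hNM : N ≤ M := le_sup_right
  have hYM : Y ≤ M := le_sup_left
  have hcardM : Nat.card M = Nat.card Y * Nat.card N := card_sup_of_coprime N Y hc
  let A := N.subgroupOf M
  have hA : Nat.card A = Nat.card N := Nat.card_congr (Subgroup.subgroupOfEquivOfLe hNM).toEquiv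
  have hX' : Nat.card (X.subgroupOf M) = Nat.card Y :=
    (Nat.card_congr (Subgroup.subgroupOfEquivOfLe hle).toEquiv).trans hXY
  have hY' : Nat.card (Y.subgroupOf M) = Nat.card Y :=
    Nat.card_congr (Subgroup.subgroupOfEquivOfLe hYM).toEquiv
  have hAs : Group.IsSolvable A :=
    Group.isSolvable_of_isSolvable_injective (f := (Subgroup.subgroupOfEquivOfLe hNM).toMonoidHom)
      (Subgroup.subgroupOfEquivOfLe hNM).injective
  have cX : Subgroup.IsComplement' A (X.subgroupOf M) :=
    Subgroup.isComplement'_of_coprime (by rw [hA, hX', hcardM, mul_comm]) (by rw [hA, hX']; exact hc)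
  have cY : Subgroup.IsComplement' A (Y.subgroupOf M) :=
    Subgroup.isComplement'_of_coprime (by rw [hA, hY', hcardM, mul_comm]) (by rw [hA, hY']; exact hc)
  have hidx : (Nat.card A).Coprime A.index := by
    have h1 := A.card_mul_index
    rw [hA, hcardM, mul_comm] at h1
    have hpos : 0 < Nat.card N := Nat.card_pos
    have h2 : A.index = Nat.card Y := Nat.eq_of_mul_eq_mul_right hpos h1
    rw [hA, h2]
    exact hc
  obtain ⟨g, hg⟩ := Cfsg.Agent.S0001.result A hidx (Or.inl hAs) _ _ cX cY
  refine ⟨(g : G), ?_⟩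
  ext x
  rw [mem_conj_smul]
  constructor
  · intro hx
    have hxM : x ∈ M := by
      have h1 : (g : G)⁻¹ * x * g ∈ M := hle hx
      have := M.mul_mem (M.mul_mem g.2 h1) (M.inv_mem g.2)
      simpa [mul_assoc] using this
    have h2 : (⟨x, hxM⟩ : M) ∈ MulAut.conj g • X.subgroupOf M := by
      rw [mem_conj_smul, Subgroup.mem_subgroupOf]; exact hx
    rw [hg, Subgroup.mem_subgroupOf] at h2
    exact h2
  · intro hx
    have hxM : x ∈ M := hYM hx
    have h2 : (⟨x, hxM⟩ : M) ∈ Y.subgroupOf M := by rw [Subgroup.mem_subgroupOf]; exact hx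
    rw [← hg, mem_conj_smul, Subgroup.mem_subgroupOf] at h2
    exact h2

theorem le_of_normal_of_coprime_index {G : Type u} [Group G] [Finite G] (N : Subgroup G)
    [N.Normal] (H : Subgroup G) (h : (Nat.card N).Coprime H.index) : N ≤ H := by
  have h1 := H.card_mul_index
  have h2 := Subgroup.card_eq_card_quotient_mul_card_subgroup N
  have h3 := (H.map (QuotientGroup.mk' N)).card_mul_index
  have h4 : Nat.card (H.map (QuotientGroup.mk' N)) = N.relIndex H := by
    rw [← Subgroup.relIndex_ker, QuotientGroup.ker_mk']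
  have h5 := Subgroup.relIndex_mul_relIndex ⊥ (N ⊓ H) H bot_le inf_le_right
  rw [Subgroup.relIndex_bot_left, Subgroup.relIndex_bot_left, Subgroup.inf_relIndex_right] at h5
  have hr : 0 < N.relIndex H := by
    rw [← h4]; exact Nat.card_pos
  have h6 : Nat.card (N ⊓ H : Subgroup G) * H.index =
      (H.map (QuotientGroup.mk' N)).index * Nat.card N := by
    apply Nat.eq_of_mul_eq_mul_left hr
    calc N.relIndex H * (Nat.card (N ⊓ H : Subgroup G) * H.index)
        = (Nat.card (N ⊓ H : Subgroup G) * N.relIndex H) * H.index := by ring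
      _ = Nat.card G := by rw [h5, h1]
      _ = N.relIndex H * ((H.map (QuotientGroup.mk' N)).index * Nat.card N) := by
          rw [h2, ← h3, h4]; ring
  have h7 : Nat.card N ∣ Nat.card (N ⊓ H : Subgroup G) :=
    h.dvd_of_dvd_mul_right (Dvd.intro_left _ h6.symm)
  have h8 : N ⊓ H = N :=
    Subgroup.eq_of_le_of_card_ge inf_le_left (Nat.le_of_dvd Nat.card_pos h7)
  exact inf_eq_left.mp h8


theorem hall_conj_aux : ∀ (k : ℕ) (G : Type u) [Group G] [Finite G] [Group.IsSolvable G],
    Nat.card G = k → ∀ (m n : ℕ), Nat.card G = m * n → m.Coprime n → ∀ H K : Subgroup G,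
    Nat.card H = m → Nat.card K = m → ∃ g : G, MulAut.conj g • H = K := by
  intro k
  induction k using Nat.strong_induction_on with
  | _ k ih =>
  intro G _ _ _ hk m n hG hmn H K hH hK
  by_cases hn1 : n = 1
  · subst hn1
    have hHt : H = ⊤ := Subgroup.eq_top_of_card_eq H (by rw [hH, hG, mul_one])
    have hKt : K = ⊤ := Subgroup.eq_top_of_card_eq K (by rw [hK, hG, mul_one])
    exact ⟨1, by rw [hHt, hKt]; simp⟩
  have hGpos : 0 < Nat.card G := Nat.card_pos
  have hnt : Nontrivial G := by
    rw [← Finite.one_lt_card_iff_nontrivial]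
    by_contra hcon
    have h1 : Nat.card G = 1 := by omega
    rw [hG] at h1
    exact hn1 (Nat.eq_one_of_mul_eq_one_left h1)
  obtain ⟨N, hNn, hNpp⟩ := exists_normal_primePow (G := G)
  set c := Nat.card N with hc
  have hc1 : 1 < c := hNpp.one_lt
  have hcd : c ∣ m * n := hG ▸ Subgroup.card_subgroup_dvd_card N
  have hq : Nat.card G = Nat.card (G ⧸ N) * c := Subgroup.card_eq_card_quotient_mul_card_subgroup N
  have hqpos : 0 < Nat.card (G ⧸ N) := Nat.card_pos
  have hlt : Nat.card (G ⧸ N) < k := by
    rw [← hk, hq]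
    exact lt_mul_of_one_lt_right hqpos hc1
  rcases (Nat.Coprime.isPrimePow_dvd_mul hmn hNpp).mp hcd with hcm | hcn
  · obtain ⟨m', rfl⟩ := hcm
    have hcn' : c.Coprime n := Nat.Coprime.coprime_mul_right hmn
    have hmn' : m'.Coprime n := Nat.Coprime.coprime_mul_left hmn
    have hidx : ∀ L : Subgroup G, Nat.card L = c * m' → L.index = n := by
      intro L hL
      have h1 := L.card_mul_index
      rw [hL, hG] at h1
      have hpos : 0 < c * m' := by
        rw [← hL]; exact Nat.card_pos
      exact Nat.eq_of_mul_eq_mul_left hpos h1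
    have hNH : N ≤ H := le_of_normal_of_coprime_index N H (by rw [hidx H hH]; exact hcn')
    have hNK : N ≤ K := le_of_normal_of_coprime_index N K (by rw [hidx K hK]; exact hcn')
    have hq' : Nat.card (G ⧸ N) = m' * n := by
      apply Nat.eq_of_mul_eq_mul_right (Nat.lt_of_lt_of_le Nat.zero_lt_one hc1.le)
      rw [← hq, hG]; ring
    have hcardmap : ∀ L : Subgroup G, N ≤ L → Nat.card L = c * m' →
        Nat.card (L.map (QuotientGroup.mk' N)) = m' := by
      intro L hL hLc
      have h1 := card_comap_mk' N (L.map (QuotientGroup.mk' N))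
      rw [Subgroup.comap_map_eq_self (by rwa [QuotientGroup.ker_mk']), hLc, mul_comm] at h1
      exact (Nat.eq_of_mul_eq_mul_right (Nat.lt_of_lt_of_le Nat.zero_lt_one hc1.le) h1).symm
    obtain ⟨g', hg'⟩ := ih _ hlt (G ⧸ N) rfl m' n hq' hmn' _ _ (hcardmap H hNH hH)
      (hcardmap K hNK hK)
    obtain ⟨g, rfl⟩ := QuotientGroup.mk'_surjective N g'
    refine ⟨g, ?_⟩
    have h1 : (MulAut.conj g • H).map (QuotientGroup.mk' N) = K.map (QuotientGroup.mk' N) := by
      rw [← hg', map_conj_smul]
    have h2 : N ≤ MulAut.conj g • H := by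
      intro x hx
      rw [mem_conj_smul]
      apply hNH
      have := hNn.conj_mem x hx g⁻¹
      simpa using this
    calc MulAut.conj g • H
        = ((MulAut.conj g • H).map (QuotientGroup.mk' N)).comap (QuotientGroup.mk' N) :=
          (Subgroup.comap_map_eq_self (by rwa [QuotientGroup.ker_mk'])).symm
      _ = (K.map (QuotientGroup.mk' N)).comap (QuotientGroup.mk' N) := by rw [h1]
      _ = K := Subgroup.comap_map_eq_self (by rwa [QuotientGroup.ker_mk'])
  · obtain ⟨n', rfl⟩ := hcn
    have hmc : m.Coprime c := Nat.Coprime.coprime_mul_right_right hmn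
    have hmn' : m.Coprime n' := Nat.Coprime.coprime_mul_left_right hmn
    have hq' : Nat.card (G ⧸ N) = m * n' := by
      apply Nat.eq_of_mul_eq_mul_right (Nat.lt_of_lt_of_le Nat.zero_lt_one hc1.le)
      rw [← hq, hG]; ring
    have hmapcard : ∀ L : Subgroup G, Nat.card L = m →
        Nat.card (L.map (QuotientGroup.mk' N)) = m := by
      intro L hL
      rw [card_map_mk'_of_coprime N L (by rw [hL]; exact hmc.symm), hL]
    obtain ⟨g', hg'⟩ := ih _ hlt (G ⧸ N) rfl m n' hq' hmn' _ _ (hmapcard H hH) (hmapcard K hK)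
    obtain ⟨g, rfl⟩ := QuotientGroup.mk'_surjective N g'
    have h1 : (MulAut.conj g • H).map (QuotientGroup.mk' N) = K.map (QuotientGroup.mk' N) := by
      rw [← hg', map_conj_smul]
    have hle : MulAut.conj g • H ≤ K ⊔ N := by
      have h2 := Subgroup.le_comap_map (QuotientGroup.mk' N) (MulAut.conj g • H)
      rw [h1, Subgroup.comap_map_eq, QuotientGroup.ker_mk'] at h2
      exact h2
    obtain ⟨y, hy⟩ := rel_sz N inferInstance (MulAut.conj g • H) K
      (by rw [card_conj_smul, hH, hK]) (by rw [hK]; exact hmc.symm) hle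
    exact ⟨y * g, by rw [map_mul, mul_smul, hy]⟩

theorem hall_dom_aux : ∀ (k : ℕ) (G : Type u) [Group G] [Finite G] [Group.IsSolvable G],
    Nat.card G = k → ∀ (m n : ℕ), Nat.card G = m * n → m.Coprime n → ∀ K : Subgroup G,
    (Nat.card K).Coprime n → ∃ H : Subgroup G, Nat.card H = m ∧ K ≤ H := by
  intro k
  induction k using Nat.strong_induction_on with
  | _ k ih =>
  intro G _ _ _ hk m n hG hmn K hK
  by_cases hn1 : n = 1
  · exact ⟨⊤, by rw [Subgroup.card_top, hG, hn1, mul_one], le_top⟩
  have hGpos : 0 < Nat.card G := Nat.card_pos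
  have hnt : Nontrivial G := by
    rw [← Finite.one_lt_card_iff_nontrivial]
    by_contra hcon
    have h1 : Nat.card G = 1 := by omega
    rw [hG] at h1
    exact hn1 (Nat.eq_one_of_mul_eq_one_left h1)
  obtain ⟨N, hNn, hNpp⟩ := exists_normal_primePow (G := G)
  set c := Nat.card N with hc
  have hc1 : 1 < c := hNpp.one_lt
  have hc0 : 0 < c := Nat.lt_of_lt_of_le Nat.zero_lt_one hc1.le
  have hcd : c ∣ m * n := hG ▸ Subgroup.card_subgroup_dvd_card N
  have hq : Nat.card G = Nat.card (G ⧸ N) * c := Subgroup.card_eq_card_quotient_mul_card_subgroup N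
  have hqpos : 0 < Nat.card (G ⧸ N) := Nat.card_pos
  have hlt : Nat.card (G ⧸ N) < k := by
    rw [← hk, hq]
    exact lt_mul_of_one_lt_right hqpos hc1
  have hKmap : Nat.card (K.map (QuotientGroup.mk' N)) ∣ Nat.card K := Subgroup.card_map_dvd _ _
  rcases (Nat.Coprime.isPrimePow_dvd_mul hmn hNpp).mp hcd with hcm | hcn
  · obtain ⟨m', rfl⟩ := hcm
    have hmn' : m'.Coprime n := Nat.Coprime.coprime_mul_left hmn
    have hq' : Nat.card (G ⧸ N) = m' * n := by
      apply Nat.eq_of_mul_eq_mul_right hc0
      rw [← hq, hG]; ring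
    obtain ⟨H', hH', hKH'⟩ := ih _ hlt (G ⧸ N) rfl m' n hq' hmn' (K.map (QuotientGroup.mk' N))
      (Nat.Coprime.coprime_dvd_left hKmap hK)
    exact ⟨H'.comap (QuotientGroup.mk' N), by rw [card_comap_mk', hH', mul_comm],
      Subgroup.map_le_iff_le_comap.mp hKH'⟩
  · obtain ⟨n', rfl⟩ := hcn
    have hmc : m.Coprime c := Nat.Coprime.coprime_mul_right_right hmn
    have hmn' : m.Coprime n' := Nat.Coprime.coprime_mul_left_right hmn
    have hKc : (Nat.card K).Coprime c := Nat.Coprime.coprime_mul_right_right hK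
    have hKn' : (Nat.card K).Coprime n' := Nat.Coprime.coprime_mul_left_right hK
    have hq' : Nat.card (G ⧸ N) = m * n' := by
      apply Nat.eq_of_mul_eq_mul_right hc0
      rw [← hq, hG]; ring
    obtain ⟨H', hH', hKH'⟩ := ih _ hlt (G ⧸ N) rfl m n' hq' hmn' (K.map (QuotientGroup.mk' N))
      (Nat.Coprime.coprime_dvd_left hKmap hKn')
    set L := H'.comap (QuotientGroup.mk' N) with hLdef
    have hL : Nat.card L = m * c := by rw [hLdef, card_comap_mk', hH']
    have hKL : K ≤ L := Subgroup.map_le_iff_le_comap.mp hKH'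
    by_cases hn' : n' = 1
    · subst hn'
      rw [mul_one] at hG hq'
      have hidx : N.index = m := by rw [Subgroup.index_eq_card, hq']
      obtain ⟨H₁, hH₁⟩ := Subgroup.exists_right_complement'_of_coprime (N := N)
        (by rw [hidx]; exact hmc.symm)
      have hH₁c : Nat.card H₁ = m := by
        have h1 := hH₁.card_mul_card
        rw [hG, mul_comm] at h1
        exact Nat.eq_of_mul_eq_mul_right hc0 h1
      set M := K ⊔ N with hMdef
      have hmapeq : (H₁ ⊓ M).map (QuotientGroup.mk' N) = K.map (QuotientGroup.mk' N) := by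
        apply le_antisymm
        · have h1 : M.map (QuotientGroup.mk' N) = K.map (QuotientGroup.mk' N) := by
            rw [hMdef, Subgroup.map_sup]
            have : N.map (QuotientGroup.mk' N) = ⊥ :=
              (Subgroup.map_eq_bot_iff _).mpr (by rw [QuotientGroup.ker_mk'])
            rw [this, sup_bot_eq]
          rw [← h1]
          exact Subgroup.map_mono inf_le_right
        · rintro _ ⟨x, hx, rfl⟩
          obtain ⟨⟨a, h⟩, hah, -⟩ := hH₁.existsUnique x
          have hah' : (a : G) * (h : G) = x := hah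
          refine ⟨(h : G), ⟨h.2, ?_⟩, ?_⟩
          · have : (h : G) = (a : G)⁻¹ * x := by rw [← hah']; group
            rw [SetLike.mem_coe, this]
            exact M.mul_mem (M.inv_mem (le_sup_right (a := K) a.2)) (le_sup_left (b := N) hx)
          · rw [← hah', map_mul]
            have : QuotientGroup.mk' N (a : G) = 1 := (QuotientGroup.eq_one_iff _).mpr a.2
            rw [this, one_mul]
      have hX : Nat.card (H₁ ⊓ M : Subgroup G) = Nat.card K := by
        rw [← card_map_mk'_of_coprime N (H₁ ⊓ M), hmapeq, card_map_mk'_of_coprime N K hKc.symm]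
        have : Nat.card (H₁ ⊓ M : Subgroup G) ∣ m := hH₁c ▸ Subgroup.card_dvd_of_le inf_le_left
        exact (Nat.Coprime.coprime_dvd_left this hmc).symm
      obtain ⟨g, hg⟩ := rel_sz N inferInstance (H₁ ⊓ M) K hX hKc.symm inf_le_right
      refine ⟨MulAut.conj g • H₁, by rw [card_conj_smul, hH₁c], ?_⟩
      rw [← hg]
      exact Subgroup.pointwise_smul_le_pointwise_smul_iff.mpr inf_le_left
    · have hLlt : Nat.card L < k := by
        rw [← hk, hG, hL]
        have hm0 : 0 < m := by
          rcases Nat.eq_zero_or_pos m with h0 | h0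
          · rw [h0, zero_mul] at hG; omega
          · exact h0
        have hn0 : 0 < n' := by
          rcases Nat.eq_zero_or_pos n' with h0 | h0
          · rw [h0, mul_zero, mul_zero] at hG; omega
          · exact h0
        have : 1 < n' := by omega
        calc m * c < m * c * n' := lt_mul_of_one_lt_right (Nat.mul_pos hm0 hc0) this
          _ = m * (c * n') := by ring
      obtain ⟨H₀, hH₀, hKH₀⟩ := ih _ hLlt L rfl m c hL hmc (K.subgroupOf L)
        (by rw [Nat.card_congr (Subgroup.subgroupOfEquivOfLe hKL).toEquiv]; exact hKc)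
      refine ⟨H₀.map L.subtype, by rw [Subgroup.card_map_of_injective L.subtype_injective, hH₀], ?_⟩
      rw [← Subgroup.map_subgroupOf_eq_of_le hKL]
      exact Subgroup.map_mono hKH₀


theorem hall_conj {G : Type u} [Group G] [Finite G] [Group.IsSolvable G] (m n : ℕ)
    (hG : Nat.card G = m * n) (hmn : m.Coprime n) (H K : Subgroup G)
    (hH : Nat.card H = m) (hK : Nat.card K = m) : ∃ g : G, MulAut.conj g • H = K :=
  hall_conj_aux _ G rfl m n hG hmn H K hH hK

theorem hall_dom {G : Type u} [Group G] [Finite G] [Group.IsSolvable G] (m n : ℕ)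
    (hG : Nat.card G = m * n) (hmn : m.Coprime n) (K : Subgroup G)
    (hK : (Nat.card K).Coprime n) : ∃ H : Subgroup G, Nat.card H = m ∧ K ≤ H :=
  hall_dom_aux _ G rfl m n hG hmn K hK

theorem hall_exists {G : Type u} [Group G] [Finite G] [Group.IsSolvable G] (m n : ℕ)
    (hG : Nat.card G = m * n) (hmn : m.Coprime n) : ∃ H : Subgroup G, Nat.card H = m := by
  obtain ⟨H, hH, -⟩ := hall_dom m n hG hmn ⊥ (by simp)
  exact ⟨H, hH⟩

theorem hall_frattini {G : Type u} [Group G] [Finite G] (L : Subgroup G) [L.Normal]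
    (hL : Group.IsSolvable L) (H : Subgroup G) (hHL : H ≤ L)
    (hHall : (Nat.card H).Coprime (H.relIndex L)) :
    L ⊔ Subgroup.normalizer (H : Set G) = ⊤ := by
  rw [eq_top_iff]
  intro g _
  have hgL : MulAut.conj g • H ≤ L := by
    intro x hx
    rw [mem_conj_smul] at hx
    have h1 := (inferInstance : L.Normal).conj_mem _ (hHL hx) g
    simpa [mul_assoc] using h1
  have hcL : Nat.card L = Nat.card H * H.relIndex L := by
    have h1 := Subgroup.relIndex_mul_relIndex ⊥ H L bot_le hHL
    rw [Subgroup.relIndex_bot_left, Subgroup.relIndex_bot_left] at h1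
    exact h1.symm
  obtain ⟨l, hl⟩ := hall_conj (G := L) (Nat.card H) (H.relIndex L) hcL hHall
    ((MulAut.conj g • H).subgroupOf L) (H.subgroupOf L)
    (by rw [Nat.card_congr (Subgroup.subgroupOfEquivOfLe hgL).toEquiv, card_conj_smul])
    (Nat.card_congr (Subgroup.subgroupOfEquivOfLe hHL).toEquiv)
  have h2 : MulAut.conj ((l : G) * g) • H = H := by
    rw [map_mul, mul_smul]
    have h3 := congrArg (Subgroup.map L.subtype) hl
    rw [map_conj_smul, Subgroup.map_subgroupOf_eq_of_le hgL,
      Subgroup.map_subgroupOf_eq_of_le hHL] at h3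
    exact h3
  have h4 : (l : G) * g ∈ Subgroup.normalizer (H : Set G) := by
    rw [Subgroup.mem_normalizer_iff'']
    intro x
    rw [← mem_conj_smul, h2]
  have h5 : g = (l : G)⁻¹ * ((l : G) * g) := by group
  rw [h5]
  exact Subgroup.mul_mem_sup (L.inv_mem l.2) h4

end Cfsg.Agent.Lib.Lead
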